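/-
A scheme with a dense open immersed onto an open of a geometrically irreducible scheme
is geometrically irreducible.
-/
import Groth.Agent.GeomConn.Basic

set_option autoImplicit false
set_option linter.style.haveILetI false
set_option backward.isDefEq.respectTransparency false

universe u

open CategoryTheory CategoryTheory.Limits AlgebraicGeometry Groth.Agent.GrpField

noncomputable section

namespace Groth.Agent.NormBC

theorem range_of_isPullback {P X Y Z : Scheme.{u}} {fst : P ⟶ X} {snd : P ⟶ Y} {f : X ⟶ Z} {g : Y ⟶ Z}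
    (h : IsPullback fst snd f g) : Set.range snd = g ⁻¹' Set.range f := by
  simpa [Set.image_univ] using Scheme.image_preimage_eq_of_isPullback h Set.univ

theorem geometricallyIrreducible_of_open {k : Type u} [Field k] {Y Z : Scheme.{u}}
    (s : Z ⟶ Spec (CommRingCat.of k)) [GeometricallyIrreducible s] [IrreducibleSpace Y] (ν : Y ⟶ Z)
    (W : Y.Opens) (hW : (W : Set Y).Nonempty) [IsImmersion (W.ι ≫ ν)]
    (hopen : IsOpen (Set.range (W.ι ≫ ν))) : GeometricallyIrreducible (ν ≫ s) := by
  refine ⟨geometrically_iff_of_isClosedUnderIsomorphisms.mpr fun K _ x ↦ ?_⟩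
  haveI : UniversallyOpen x := PointBase.uopen _ _
  haveI : Surjective x := PointBase.surj _ _
  haveI : IrreducibleSpace ↥(pullback s x) :=
    GeometricallyIrreducible.geometrically_irreducibleSpace (f := s) x _ _ (IsPullback.of_hasPullback s x)
  let p : pullback (ν ≫ s) x ⟶ Y := pullback.fst _ _
  let j : pullback (W.ι ≫ ν ≫ s) x ⟶ pullback (ν ≫ s) x :=
    pullback.map _ _ _ _ W.ι (𝟙 _) (𝟙 _) (by simp) (by simp)
  let i : pullback (W.ι ≫ ν ≫ s) x ⟶ pullback s x :=
    pullback.map _ _ _ _ (W.ι ≫ ν) (𝟙 _) (𝟙 _) (by simp) (by simp)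
  have hi : IsPullback i (pullback.fst (W.ι ≫ ν ≫ s) x) (pullback.fst s x) (W.ι ≫ ν) := by
    refine IsPullback.of_right ?_ (pullback.lift_fst _ _ _) (IsPullback.of_hasPullback s x).flip
    simp only [i, pullback.lift_snd, Category.comp_id, Category.assoc]
    exact (IsPullback.of_hasPullback (W.ι ≫ ν ≫ s) x).flip
  haveI : IsImmersion i := MorphismProperty.of_isPullback (P := @IsImmersion) hi.flip inferInstance
  have hri : IsOpen (Set.range i) := by
    have : Set.range i = pullback.fst s x ⁻¹' Set.range (W.ι ≫ ν) := range_of_isPullback hi.flip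
    rw [this]
    exact hopen.preimage (pullback.fst s x).continuous
  have hj : IsPullback j (pullback.fst (W.ι ≫ ν ≫ s) x) p W.ι := by
    refine IsPullback.of_right ?_ (pullback.lift_fst _ _ _) (IsPullback.of_hasPullback (ν ≫ s) x).flip
    simp only [j, pullback.lift_snd, Category.comp_id]
    exact (IsPullback.of_hasPullback (W.ι ≫ ν ≫ s) x).flip
  have hrj : Set.range j = p ⁻¹' W := by
    rw [range_of_isPullback hj.flip, Scheme.Opens.range_ι]
  have hdense : Dense (p ⁻¹' (W : Set Y)) := by
    haveI : UniversallyOpen p := MorphismProperty.of_isPullback (P := @UniversallyOpen)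
      (IsPullback.of_hasPullback (ν ≫ s) x).flip ‹_›
    exact (W.isOpen.dense hW).preimage p.isOpenMap
  have hne : Nonempty ↥(pullback (W.ι ≫ ν ≫ s) x) := by
    obtain ⟨w, hw⟩ := hW
    obtain ⟨z, -⟩ := (pullback.fst (W.ι ≫ ν ≫ s) x).surjective ⟨w, hw⟩
    exact ⟨z⟩
  haveI : IrreducibleSpace ↥(pullback (W.ι ≫ ν ≫ s) x) := by
    have he : Topology.IsOpenEmbedding i := ⟨i.isEmbedding, hri⟩
    exact he.irreducibleSpace
  have hirr : IsIrreducible (p ⁻¹' (W : Set Y)) := by
    rw [← hrj, ← Set.image_univ]
    exact (IrreducibleSpace.isIrreducible_univ _).image _ j.continuous.continuousOn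
  have hc := hirr.closure
  rw [hdense.closure_eq] at hc
  exact (irreducibleSpace_def _).2 hc

end Groth.Agent.NormBC

end
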